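import Mathlib
import Cfsg.Agent.Lib.Compute.OutFinal
import Cfsg.Agent.Lib.Sporadic.SuzOut.Data

/-! The kernel checks for the outer automorphism group of the group of Suzuki. -/

set_option autoImplicit false
set_option maxRecDepth 100000

namespace Cfsg.Agent.Lib.Sporadic.SuzOut.Check

open Cfsg.Agent.Lib.Compute.PermCert Cfsg.Agent.Lib.Compute.OutChain Cfsg.Agent.Lib.Compute.OutFinal
open Cfsg.Agent.Lib.Sporadic.SuzOut.Data

theorem chainA_ok : chkChainF 11 2047 1782 23 8388607 11 (lrlvA.map Prod.fst) = true := by decide +kernel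
theorem chainB_ok : chkChainF 11 2047 1782 23 8388607 11 (lrlvB.map Prod.fst) = true := by decide +kernel
theorem ordA : ordC (lrlvA.map Prod.fst) = 448345497600 := by decide +kernel
theorem ordB : ordC (lrlvB.map Prod.fst) = 448345497600 := by decide +kernel
theorem ruA : rulesOK 1782 (gt 11 2047 piE) [] lrlvA = true := by decide +kernel
theorem ruB : rulesOK 1782 (gt 11 2047 zE) [] lrlvB = true := by decide +kernel
theorem sA : searchF 11 2047 1782 23 8388607 11 (iterF (gt 11 2047 piE) 8)
    (conjLeaf 11 2047 piE rhoE 11 (baseL (lrlvA.map Prod.fst))) lrlvA id id = true := by decide +kernel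
theorem sB : searchF 11 2047 1782 23 8388607 11 (gt 11 2047 zE)
    (finLeaf2 11 2047 piE rhoE yE tE kills (baseL (lrlvB.map Prod.fst))) lrlvB id id = true := by decide +kernel
theorem kF : killsOK 1782 11 (gt 11 2047 piE) (gt 11 2047 rhoE) (gt 11 2047 yE) kills = true := by decide +kernel

theorem vP : validB 11 2047 1782 piE = true := by decide +kernel
theorem vR : validB 11 2047 1782 rhoE = true := by decide +kernel
theorem vY : validB 11 2047 1782 yE = true := by decide +kernel
theorem vT : validB 11 2047 1782 tE = true := by decide +kernel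
theorem vZ : validB 11 2047 1782 zE = true := by decide +kernel
theorem siftP : siftF 11 2047 1782 23 8388607 11 (lrlvA.map Prod.fst) (gt 11 2047 piE) = true := by decide +kernel
theorem siftR : siftF 11 2047 1782 23 8388607 11 (lrlvA.map Prod.fst) (gt 11 2047 rhoE) = true := by decide +kernel
theorem siftY : siftF 11 2047 1782 23 8388607 11 (lrlvA.map Prod.fst) (gt 11 2047 yE) = true := by decide +kernel
theorem siftTY : siftF 11 2047 1782 23 8388607 11 (lrlvA.map Prod.fst)
    (fun i => gt 11 2047 tE (gt 11 2047 yE (gi 11 2047 tE i))) = true := by decide +kernel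
theorem siftTY' : siftF 11 2047 1782 23 8388607 11 (lrlvA.map Prod.fst)
    (fun i => gi 11 2047 tE (gt 11 2047 yE (gt 11 2047 tE i))) = true := by decide +kernel
theorem powP : allN (fun i => Nat.beq (iterF (gt 11 2047 piE) 11 i) i) 1782 11 = true := by decide +kernel
theorem neP : Nat.beq (gt 11 2047 piE 0) 0 = false := by decide +kernel
theorem relR : allN (fun i => Nat.beq (gt 11 2047 rhoE (gt 11 2047 piE i))
    (iterF (gt 11 2047 piE) 8 (gt 11 2047 rhoE i))) 1782 11 = true := by decide +kernel
theorem commTP : allN (fun i => Nat.beq (gt 11 2047 tE (gt 11 2047 piE i)) (gt 11 2047 piE (gt 11 2047 tE i))) 1782 11 = true := by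
  decide +kernel
theorem commTR : allN (fun i => Nat.beq (gt 11 2047 tE (gt 11 2047 rhoE i)) (gt 11 2047 rhoE (gt 11 2047 tE i))) 1782 11 = true := by
  decide +kernel
theorem commYZ : allN (fun i => Nat.beq (gt 11 2047 yE (gt 11 2047 zE i)) (gt 11 2047 zE (gt 11 2047 yE i))) 1782 11 = true := by
  decide +kernel
theorem eqZ : allN (fun i => Nat.beq (gt 11 2047 zE i) (iterF (gt 11 2047 rhoE) 2 i)) 1782 11 = true := by decide +kernel

end Cfsg.Agent.Lib.Sporadic.SuzOut.Check
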