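import Mathlib
import Cfsg.Agent.Lib.Sporadic.SuzOut.Check
import Cfsg.Agent.S1694

/-! The outer automorphism group of the group of Suzuki. -/

set_option autoImplicit false

namespace Cfsg.Agent.Lib.Sporadic.SuzOut.Main

open Cfsg Cfsg.Agent.Lib.Compute.PermCert Cfsg.Agent.Lib.Compute.OutChain Cfsg.Agent.Lib.Compute.OutFinal
open Cfsg.Agent.Lib.Compute.ToddCoxeterCore Cfsg.Agent.Lib.Compute.ToddCoxeterPresented
  Cfsg.Agent.Lib.Compute.TCFast Cfsg.Agent.Lib.Compute.TCChain
open Cfsg.Agent.Lib.Compute.TC Cfsg.Agent.Lib.Compute.PermOut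
open Cfsg.Agent.Lib.Sporadic.SuzOut.Data Cfsg.Agent.Lib.Sporadic.SuzOut.Check

/-- The homomorphism from the presented group. -/
noncomputable abbrev phi := phiG Suz1.hR Suz1.small Suz1.big Suz1.hgens

/-- The group as a permutation group. -/
noncomputable def K : Subgroup (Equiv.Perm (Fin 1782)) := phi.range

theorem card_K : Nat.card K = 448345497600 := by
  have h1 : Nat.card K = Nat.card (PresentedGroup Suz1.RR) :=
    (Nat.card_congr (MonoidHom.ofInjective S1694.inj.1).toEquiv).symm
  rw [h1, S1694.inj.2]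

theorem out_eq : Nat.card (Out Cfsg.Spor.Suz) = Nat.card (Out K) :=
  card_out_congr (A := PresentedGroup Suz1.RR) (MonoidHom.ofInjective S1694.inj.1)

theorem hd : 1782 ≤ 2 ^ 11 := by norm_num

/-- The values of the generators. -/
noncomputable def ev (j i : Nat) : Nat := ev0 Suz1.cfg j true i

theorem ev_spec (j : Nat) : ∃ x ∈ K, ∀ i : Fin 1782, ev j i = x i :=
  ⟨phi (elG Suz1.D Suz1.RR j), ⟨_, rfl⟩, fun i =>
    (ev0_ok Suz1.hR Suz1.small Suz1.big Suz1.hgens j i).1⟩

theorem gens_ok : gensOK 11 2047 1782 11 ev 0 lvA0.gens = true := by decide +kernel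

theorem hA : ChainFor 11 2047 1782 23 8388607 K (lrlvA.map Prod.fst) := by
  refine ChainFor.of_fast hd chainA_ok ?_ (by rw [ordA, card_K])
  have hc := (chkChainF_eq hd (tw := 23) (tm := 8388607) (w := 11) (m := 2047) (ls := lrlvA.map Prod.fst)).symm.trans chainA_ok
  exact gens_le hd ev_spec (hdG_valid hc) gens_ok

theorem mP : permOf 11 2047 1782 piE ∈ K := hA.mem_of_sift hd (gt_eq vP) siftP
theorem mR : permOf 11 2047 1782 rhoE ∈ K := hA.mem_of_sift hd (gt_eq vR) siftR
theorem mY : permOf 11 2047 1782 yE ∈ K := hA.mem_of_sift hd (gt_eq vY) siftY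

theorem hB : ChainFor 11 2047 1782 23 8388607 K (lrlvB.map Prod.fst) := by
  refine ChainFor.of_fast hd chainB_ok ?_ (by rw [ordB, card_K])
  refine (Subgroup.closure_le _).mpr ?_
  rintro _ ⟨e, he, rfl⟩
  have he' : e ∈ [piE, rhoE, yE] := he
  simp only [List.mem_cons, List.not_mem_nil, or_false] at he'
  rcases he' with rfl | rfl | rfl
  · exact mP
  · exact mR
  · exact mY

instance fact11 : Fact (Nat.Prime 11) := ⟨by norm_num⟩

/-- The outer automorphism group of the group of Suzuki. -/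
theorem card_out_Suz : Nat.card (Out Cfsg.Spor.Suz) = 2 := by
  rw [out_eq]
  refine card_out_two (p := 11) (r := 8) (zk := 2) (pe := piE) (re := rhoE) (ye := yE) (te := tE) (ze := zE)
    (kills := kills) hA hB hd rfl vP vR vY vT ?_ ?_ ?_ ?_ ?_ ?_ ?_ ?_ ?_ ?_ ?_ ?_ vZ ?_ ?_ ruA sA ruB sB kF
  · rw [card_K]; norm_num
  · exact pow_of_check vP hd powP
  · exact ne_one_of_point vP (i := 0) (by norm_num) neP
  · exact rel_of_check vP vR hd relR
  · exact hexp_of_check (by norm_num) (by decide)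
  · norm_num
  · norm_num
  · exact hA.mem_of_sift hd (conj_rep vT vY) siftTY
  · exact hA.mem_of_sift hd (conj_rep' vT vY) siftTY'
  · exact comm_of_check vT vP hd commTP
  · exact comm_of_check vT vR hd commTR
  · exact ne_comm_of_point vT vY (i := 0) (by norm_num) (by decide +kernel)
  · exact eq_pow_of_check vZ vR hd eqZ
  · exact comm_of_check vY vZ hd commYZ

end Cfsg.Agent.Lib.Sporadic.SuzOut.Main
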